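import Cfsg.Agent.Lib.H17.J2Ord.Deg100

set_option autoImplicit false
set_option maxRecDepth 100000

/-! # Element orders of the Hall–Janko group: the checking machinery

The presented group `G` of helper17 acts faithfully on 100 points through packed tables.  An
element is *represented* by a list of tables (applied first letter first); the order of an
element represented by `ts` divides `e` as soon as the `e`-th iterate of `ts` fixes all points. -/

namespace Cfsg.Agent.Lib.H22.J2Spec

open Cfsg.Agent.Lib.H17.CosetCert Cfsg.Agent.Lib.H17.J2P100 Cfsg.Agent.Lib.H17.J2PGlue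
  Cfsg.Agent.Lib.H17.J2Deg100

/-- the table of the generator with a given index -/
def tabN : ℕ → ℕ
  | 0 => tab0
  | 1 => tab1
  | 2 => tab2
  | 3 => tab3
  | _ => tab4

/-- the tables of a word -/
def tw (L : List ℕ) : List ℕ := L.map tabN

theorem tabN_eq (x : ℕ) : tabN x = tabOf (gen x) := by
  rcases x with _ | _ | _ | _ | _ <;> rfl

theorem good_tabN (x : ℕ) : Good 7 128 100 (tabN x) := by
  rw [tabN_eq]
  exact good_tabs _ (tabOf_mem _)

theorem good_tw (L : List ℕ) : ∀ t ∈ tw L, Good 7 128 100 t := by
  intro t ht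
  obtain ⟨x, -, rfl⟩ := List.mem_map.mp ht
  exact good_tabN x

/-- the element of a word, the first letter acting first -/
noncomputable def el (L : List ℕ) : G :=
  (L.reverse.map fun x => (PresentedGroup.of (gen x) : G)).prod

theorem φ_el (L : List ℕ) : φ (el L) = ((tw L).map (σ 7 128 100)).reverse.prod := by
  unfold el tw
  rw [map_list_prod, List.map_map, List.map_map, ← List.map_reverse]
  congr 1
  apply List.map_congr_left
  intro x _
  simp only [Function.comp]
  rw [φ_of, tabN_eq]
  rfl

/-- `g` acts on the 100 points as the word of tables `ts` -/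
def Rep (g : G) (ts : List ℕ) : Prop :=
  ∀ i : Fin 100, ((φ g i : Fin 100) : ℕ) = applyT 7 128 ts i

theorem rep_el (L : List ℕ) : Rep (el L) (tw L) := by
  intro i
  rw [φ_el]
  exact prod_reverse_apply 7 128 100 (tw L) (good_tw L) i

theorem Rep.mul {a b : G} {ta tb : List ℕ} (ha : Rep a ta) (hb : Rep b tb) :
    Rep (a * b) (tb ++ ta) := by
  intro i
  rw [map_mul, Equiv.Perm.mul_apply, applyT_append, ← hb i, ha]

theorem applyT_single (T i : ℕ) : applyT 7 128 [T] i = lk 7 128 T i := by
  rw [applyT_cons, applyT_nil]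

theorem Rep.apply_single {g : G} {T : ℕ} (h : Rep g [T]) (i : Fin 100) :
    ((φ g i : Fin 100) : ℕ) = lk 7 128 T i := by
  rw [h i, applyT_single]

theorem Rep.single {g : G} {w : List ℕ} {T : ℕ} (h : Rep g w)
    (hT : ∀ i < 100, applyT 7 128 w i = lk 7 128 T i) : Rep g [T] := by
  intro i
  rw [h i, hT i i.2, applyT_single]

/-- the word `ts` and the table `T` agree on the points `< n` -/
noncomputable def wordTab (ts : List ℕ) (T : ℕ) (n : ℕ) : Bool :=
  Nat.rec (motive := fun _ => Bool) true
    (fun i ih => cond (Nat.beq (applyT 7 128 ts i) (lk 7 128 T i)) ih false) n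

theorem wordTab_sound (ts : List ℕ) (T n : ℕ) (h : wordTab ts T n = true) :
    ∀ i < n, applyT 7 128 ts i = lk 7 128 T i := by
  induction n with
  | zero => intro i hi; omega
  | succ n ih =>
    have h' : cond (Nat.beq (applyT 7 128 ts n) (lk 7 128 T n)) (wordTab ts T n) false = true := h
    cases hb : Nat.beq (applyT 7 128 ts n) (lk 7 128 T n) with
    | false => rw [hb] at h'; exact absurd h' (by simp)
    | true =>
      rw [hb] at h'
      intro i hi
      rcases Nat.lt_succ_iff_lt_or_eq.mp hi with hlt | rfl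
      · exact ih h' i hlt
      · exact Nat.eq_of_beq_eq_true hb

/-- the `e`-th iterate of a word of tables -/
noncomputable def iterT (ts : List ℕ) (e : ℕ) : ℕ → ℕ :=
  Nat.rec (motive := fun _ => ℕ → ℕ) (fun i => i)
    (fun _ ih i => force (applyT 7 128 ts i) ih) e

theorem iterT_zero (ts : List ℕ) (i : ℕ) : iterT ts 0 i = i := rfl

theorem iterT_succ (ts : List ℕ) (e i : ℕ) :
    iterT ts (e + 1) i = iterT ts e (applyT 7 128 ts i) := by
  change force (applyT 7 128 ts i) (iterT ts e) = _
  rw [force_eq]

theorem Rep.pow {g : G} {ts : List ℕ} (h : Rep g ts) (e : ℕ) (i : Fin 100) :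
    ((φ (g ^ e) i : Fin 100) : ℕ) = iterT ts e i := by
  induction e generalizing i with
  | zero => simp [iterT_zero]
  | succ e ih =>
    rw [pow_succ, map_mul, Equiv.Perm.mul_apply, ih, iterT_succ, h i]

/-- the `e`-th iterate fixes all points `< n` -/
noncomputable def powFix (ts : List ℕ) (e n : ℕ) : Bool :=
  Nat.rec (motive := fun _ => Bool) true
    (fun i ih => cond (Nat.beq (iterT ts e i) i) ih false) n

theorem powFix_sound (ts : List ℕ) (e n : ℕ) (h : powFix ts e n = true) :
    ∀ i < n, iterT ts e i = i := by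
  induction n with
  | zero => intro i hi; omega
  | succ n ih =>
    have h' : cond (Nat.beq (iterT ts e n) n) (powFix ts e n) false = true := h
    cases hb : Nat.beq (iterT ts e n) n with
    | false => rw [hb] at h'; exact absurd h' (by simp)
    | true =>
      rw [hb] at h'
      intro i hi
      rcases Nat.lt_succ_iff_lt_or_eq.mp hi with hlt | rfl
      · exact ih h' i hlt
      · exact Nat.eq_of_beq_eq_true hb

theorem Rep.pow_eq_one {g : G} {ts : List ℕ} {e : ℕ} (h : Rep g ts)
    (hp : powFix ts e 100 = true) : g ^ e = 1 := by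
  apply φ_inj
  rw [map_one]
  ext i
  rw [h.pow e i, powFix_sound ts e 100 hp i i.2]
  rfl

theorem Rep.pow_ne_one {g : G} {ts : List ℕ} (h : Rep g ts) (m i : ℕ) (hi : i < 100)
    (hne : iterT ts m i ≠ i) : g ^ m ≠ 1 := by
  intro h1
  apply hne
  have := h.pow m ⟨i, hi⟩
  rw [h1, map_one] at this
  exact this.symm

/-- the order of the word of tables divides 8, 12, 10, 15 or 7 -/
noncomputable def ordOK (ts : List ℕ) : Bool :=
  cond (powFix ts 8 100) true (cond (powFix ts 12 100) true (cond (powFix ts 10 100) true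
    (cond (powFix ts 15 100) true (powFix ts 7 100))))

/-- the spectrum of the Hall–Janko group -/
def Tset : Set ℕ := {1, 2, 3, 4, 5, 6, 7, 8, 10, 12, 15}

theorem mem_Tset_of_dvd {n e : ℕ} (he : e = 8 ∨ e = 12 ∨ e = 10 ∨ e = 15 ∨ e = 7)
    (h : n ∣ e) : n ∈ Tset := by
  have hpos : 0 < e := by rcases he with rfl | rfl | rfl | rfl | rfl <;> norm_num
  have hle := Nat.le_of_dvd hpos h
  have hn0 : 0 < n := Nat.pos_of_dvd_of_pos h hpos
  rcases he with rfl | rfl | rfl | rfl | rfl <;> interval_cases n <;>
    first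
    | (simp [Tset]; done)
    | (exfalso; revert h; decide)

theorem Rep.order_mem {g : G} {ts : List ℕ} (h : Rep g ts) (hok : ordOK ts = true) :
    orderOf g ∈ Tset := by
  unfold ordOK at hok
  cases h8 : powFix ts 8 100 with
  | true => exact mem_Tset_of_dvd (Or.inl rfl) (orderOf_dvd_of_pow_eq_one (h.pow_eq_one h8))
  | false =>
    rw [h8, cond_false] at hok
    cases h12 : powFix ts 12 100 with
    | true =>
      exact mem_Tset_of_dvd (Or.inr (Or.inl rfl)) (orderOf_dvd_of_pow_eq_one (h.pow_eq_one h12))
    | false =>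
      rw [h12, cond_false] at hok
      cases h10 : powFix ts 10 100 with
      | true =>
        exact mem_Tset_of_dvd (Or.inr (Or.inr (Or.inl rfl)))
          (orderOf_dvd_of_pow_eq_one (h.pow_eq_one h10))
      | false =>
        rw [h10, cond_false] at hok
        cases h15 : powFix ts 15 100 with
        | true =>
          exact mem_Tset_of_dvd (Or.inr (Or.inr (Or.inr (Or.inl rfl))))
            (orderOf_dvd_of_pow_eq_one (h.pow_eq_one h15))
        | false =>
          rw [h15, cond_false] at hok
          exact mem_Tset_of_dvd (Or.inr (Or.inr (Or.inr (Or.inr rfl))))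
            (orderOf_dvd_of_pow_eq_one (h.pow_eq_one hok))

/-! ## checking on a base only -/

/-- the four points `0, 36, 1, 2` form a base: only the identity fixes them all -/
def IsBase : Prop := ∀ g : G, φ g ⟨0, by norm_num⟩ = ⟨0, by norm_num⟩ →
  φ g ⟨36, by norm_num⟩ = ⟨36, by norm_num⟩ → φ g ⟨1, by norm_num⟩ = ⟨1, by norm_num⟩ →
  φ g ⟨2, by norm_num⟩ = ⟨2, by norm_num⟩ → g = 1

/-- the `e`-th iterate fixes the four base points -/
noncomputable def powFixB (ts : List ℕ) (e : ℕ) : Bool :=
  Nat.beq (iterT ts e 0) 0 && (Nat.beq (iterT ts e 36) 36 &&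
    (Nat.beq (iterT ts e 1) 1 && Nat.beq (iterT ts e 2) 2))

theorem Rep.pow_eq_one_of_base {g : G} {ts : List ℕ} {e : ℕ} (hB : IsBase) (h : Rep g ts)
    (hp : powFixB ts e = true) : g ^ e = 1 := by
  unfold powFixB at hp
  rw [Bool.and_eq_true, Bool.and_eq_true, Bool.and_eq_true] at hp
  obtain ⟨h0, h36, h1, h2⟩ := hp
  refine hB _ (Fin.ext ?_) (Fin.ext ?_) (Fin.ext ?_) (Fin.ext ?_)
  · rw [h.pow e]; exact Nat.eq_of_beq_eq_true h0
  · rw [h.pow e]; exact Nat.eq_of_beq_eq_true h36
  · rw [h.pow e]; exact Nat.eq_of_beq_eq_true h1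
  · rw [h.pow e]; exact Nat.eq_of_beq_eq_true h2

/-- the order of the word of tables divides 8, 12, 10, 15 or 7 (checked on the base) -/
noncomputable def ordOKB (ts : List ℕ) : Bool :=
  cond (powFixB ts 8) true (cond (powFixB ts 12) true (cond (powFixB ts 10) true
    (cond (powFixB ts 15) true (powFixB ts 7))))

theorem Rep.order_mem_of_base {g : G} {ts : List ℕ} (hB : IsBase) (h : Rep g ts)
    (hok : ordOKB ts = true) : orderOf g ∈ Tset := by
  unfold ordOKB at hok
  cases h8 : powFixB ts 8 with
  | true =>
    exact mem_Tset_of_dvd (Or.inl rfl) (orderOf_dvd_of_pow_eq_one (h.pow_eq_one_of_base hB h8))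
  | false =>
    rw [h8, cond_false] at hok
    cases h12 : powFixB ts 12 with
    | true =>
      exact mem_Tset_of_dvd (Or.inr (Or.inl rfl))
        (orderOf_dvd_of_pow_eq_one (h.pow_eq_one_of_base hB h12))
    | false =>
      rw [h12, cond_false] at hok
      cases h10 : powFixB ts 10 with
      | true =>
        exact mem_Tset_of_dvd (Or.inr (Or.inr (Or.inl rfl)))
          (orderOf_dvd_of_pow_eq_one (h.pow_eq_one_of_base hB h10))
      | false =>
        rw [h10, cond_false] at hok
        cases h15 : powFixB ts 15 with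
        | true =>
          exact mem_Tset_of_dvd (Or.inr (Or.inr (Or.inr (Or.inl rfl))))
            (orderOf_dvd_of_pow_eq_one (h.pow_eq_one_of_base hB h15))
        | false =>
          rw [h15, cond_false] at hok
          exact mem_Tset_of_dvd (Or.inr (Or.inr (Or.inr (Or.inr rfl))))
            (orderOf_dvd_of_pow_eq_one (h.pow_eq_one_of_base hB hok))

end Cfsg.Agent.Lib.H22.J2Spec
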