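import Cfsg.Agent.Lib.H22.J2Spec.Chk

set_option autoImplicit false
set_option maxRecDepth 100000

/-! # Element orders of the Hall–Janko group: order checks, part 0 (generated) -/

namespace Cfsg.Agent.Lib.H22.J2Spec

open Cfsg.Agent.Lib.H17.CosetCert

theorem c_0_0 : Kl.all (fun k => ordOKB [k.1, Ut 0, Tt 0]) = true := by
  decide +kernel

theorem c_0_1 : Kl.all (fun k => ordOKB [k.1, Ut 1, Tt 0]) = true := by
  decide +kernel

theorem c_0_2 : Kl.all (fun k => ordOKB [k.1, Ut 2, Tt 0]) = true := by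
  decide +kernel

theorem c_0_3 : Kl.all (fun k => ordOKB [k.1, Ut 3, Tt 0]) = true := by
  decide +kernel

theorem c_0_4 : Kl.all (fun k => ordOKB [k.1, Ut 4, Tt 0]) = true := by
  decide +kernel

theorem c_0_5 : Kl.all (fun k => ordOKB [k.1, Ut 5, Tt 0]) = true := by
  decide +kernel

theorem c_0_6 : Kl.all (fun k => ordOKB [k.1, Ut 6, Tt 0]) = true := by
  decide +kernel

theorem c_0_7 : Kl.all (fun k => ordOKB [k.1, Ut 7, Tt 0]) = true := by
  decide +kernel

theorem c_0_8 : Kl.all (fun k => ordOKB [k.1, Ut 8, Tt 0]) = true := by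
  decide +kernel

theorem c_0_9 : Kl.all (fun k => ordOKB [k.1, Ut 9, Tt 0]) = true := by
  decide +kernel

theorem c_0_10 : Kl.all (fun k => ordOKB [k.1, Ut 10, Tt 0]) = true := by
  decide +kernel

theorem c_0_11 : Kl.all (fun k => ordOKB [k.1, Ut 11, Tt 0]) = true := by
  decide +kernel

theorem c_0_12 : Kl.all (fun k => ordOKB [k.1, Ut 12, Tt 0]) = true := by
  decide +kernel

theorem c_0_13 : Kl.all (fun k => ordOKB [k.1, Ut 13, Tt 0]) = true := by
  decide +kernel

theorem c_0_14 : Kl.all (fun k => ordOKB [k.1, Ut 14, Tt 0]) = true := by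
  decide +kernel

theorem c_0_15 : Kl.all (fun k => ordOKB [k.1, Ut 15, Tt 0]) = true := by
  decide +kernel

theorem c_0_16 : Kl.all (fun k => ordOKB [k.1, Ut 16, Tt 0]) = true := by
  decide +kernel

theorem c_0_17 : Kl.all (fun k => ordOKB [k.1, Ut 17, Tt 0]) = true := by
  decide +kernel

end Cfsg.Agent.Lib.H22.J2Spec
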