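import Cfsg.Agent.Lib.H22.J2Spec.Chk

set_option autoImplicit false
set_option maxRecDepth 100000

/-! # Element orders of the Hall–Janko group: order checks, part 1 (generated) -/

namespace Cfsg.Agent.Lib.H22.J2Spec

open Cfsg.Agent.Lib.H17.CosetCert

theorem c_0_18 : Kl.all (fun k => ordOKB [k.1, Ut 18, Tt 0]) = true := by
  decide +kernel

theorem c_0_19 : Kl.all (fun k => ordOKB [k.1, Ut 19, Tt 0]) = true := by
  decide +kernel

theorem c_0_20 : Kl.all (fun k => ordOKB [k.1, Ut 20, Tt 0]) = true := by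
  decide +kernel

theorem c_0_21 : Kl.all (fun k => ordOKB [k.1, Ut 21, Tt 0]) = true := by
  decide +kernel

theorem c_0_22 : Kl.all (fun k => ordOKB [k.1, Ut 22, Tt 0]) = true := by
  decide +kernel

theorem c_0_23 : Kl.all (fun k => ordOKB [k.1, Ut 23, Tt 0]) = true := by
  decide +kernel

theorem c_0_24 : Kl.all (fun k => ordOKB [k.1, Ut 24, Tt 0]) = true := by
  decide +kernel

theorem c_0_25 : Kl.all (fun k => ordOKB [k.1, Ut 25, Tt 0]) = true := by
  decide +kernel

theorem c_0_26 : Kl.all (fun k => ordOKB [k.1, Ut 26, Tt 0]) = true := by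
  decide +kernel

theorem c_0_27 : Kl.all (fun k => ordOKB [k.1, Ut 27, Tt 0]) = true := by
  decide +kernel

theorem c_0_28 : Kl.all (fun k => ordOKB [k.1, Ut 28, Tt 0]) = true := by
  decide +kernel

theorem c_0_29 : Kl.all (fun k => ordOKB [k.1, Ut 29, Tt 0]) = true := by
  decide +kernel

theorem c_0_30 : Kl.all (fun k => ordOKB [k.1, Ut 30, Tt 0]) = true := by
  decide +kernel

theorem c_0_31 : Kl.all (fun k => ordOKB [k.1, Ut 31, Tt 0]) = true := by
  decide +kernel

theorem c_0_32 : Kl.all (fun k => ordOKB [k.1, Ut 32, Tt 0]) = true := by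
  decide +kernel

theorem c_0_33 : Kl.all (fun k => ordOKB [k.1, Ut 33, Tt 0]) = true := by
  decide +kernel

theorem c_0_34 : Kl.all (fun k => ordOKB [k.1, Ut 34, Tt 0]) = true := by
  decide +kernel

theorem c_0_35 : Kl.all (fun k => ordOKB [k.1, Ut 35, Tt 0]) = true := by
  decide +kernel

end Cfsg.Agent.Lib.H22.J2Spec
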