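import Cfsg.Agent.Lib.H22.J2Spec.Chk

set_option autoImplicit false
set_option maxRecDepth 100000

/-! # Element orders of the Hall–Janko group: order checks, part 2 (generated) -/

namespace Cfsg.Agent.Lib.H22.J2Spec

open Cfsg.Agent.Lib.H17.CosetCert

theorem c_1_0 : Kl.all (fun k => ordOKB [k.1, Ut 0, Tt 1]) = true := by
  decide +kernel

theorem c_1_1 : Kl.all (fun k => ordOKB [k.1, Ut 1, Tt 1]) = true := by
  decide +kernel

theorem c_1_2 : Kl.all (fun k => ordOKB [k.1, Ut 2, Tt 1]) = true := by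
  decide +kernel

theorem c_1_3 : Kl.all (fun k => ordOKB [k.1, Ut 3, Tt 1]) = true := by
  decide +kernel

theorem c_1_4 : Kl.all (fun k => ordOKB [k.1, Ut 4, Tt 1]) = true := by
  decide +kernel

theorem c_1_5 : Kl.all (fun k => ordOKB [k.1, Ut 5, Tt 1]) = true := by
  decide +kernel

theorem c_1_6 : Kl.all (fun k => ordOKB [k.1, Ut 6, Tt 1]) = true := by
  decide +kernel

theorem c_1_7 : Kl.all (fun k => ordOKB [k.1, Ut 7, Tt 1]) = true := by
  decide +kernel

theorem c_1_8 : Kl.all (fun k => ordOKB [k.1, Ut 8, Tt 1]) = true := by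
  decide +kernel

theorem c_1_9 : Kl.all (fun k => ordOKB [k.1, Ut 9, Tt 1]) = true := by
  decide +kernel

theorem c_1_10 : Kl.all (fun k => ordOKB [k.1, Ut 10, Tt 1]) = true := by
  decide +kernel

theorem c_1_11 : Kl.all (fun k => ordOKB [k.1, Ut 11, Tt 1]) = true := by
  decide +kernel

theorem c_1_12 : Kl.all (fun k => ordOKB [k.1, Ut 12, Tt 1]) = true := by
  decide +kernel

theorem c_1_13 : Kl.all (fun k => ordOKB [k.1, Ut 13, Tt 1]) = true := by
  decide +kernel

theorem c_1_14 : Kl.all (fun k => ordOKB [k.1, Ut 14, Tt 1]) = true := by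
  decide +kernel

theorem c_1_15 : Kl.all (fun k => ordOKB [k.1, Ut 15, Tt 1]) = true := by
  decide +kernel

theorem c_1_16 : Kl.all (fun k => ordOKB [k.1, Ut 16, Tt 1]) = true := by
  decide +kernel

theorem c_1_17 : Kl.all (fun k => ordOKB [k.1, Ut 17, Tt 1]) = true := by
  decide +kernel

end Cfsg.Agent.Lib.H22.J2Spec
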