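import Cfsg.Agent.Lib.H22.J2Spec.Chk

set_option autoImplicit false
set_option maxRecDepth 100000

/-! # Element orders of the Hall–Janko group: order checks, part 3 (generated) -/

namespace Cfsg.Agent.Lib.H22.J2Spec

open Cfsg.Agent.Lib.H17.CosetCert

theorem c_1_18 : Kl.all (fun k => ordOKB [k.1, Ut 18, Tt 1]) = true := by
  decide +kernel

theorem c_1_19 : Kl.all (fun k => ordOKB [k.1, Ut 19, Tt 1]) = true := by
  decide +kernel

theorem c_1_20 : Kl.all (fun k => ordOKB [k.1, Ut 20, Tt 1]) = true := by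
  decide +kernel

theorem c_1_21 : Kl.all (fun k => ordOKB [k.1, Ut 21, Tt 1]) = true := by
  decide +kernel

theorem c_1_22 : Kl.all (fun k => ordOKB [k.1, Ut 22, Tt 1]) = true := by
  decide +kernel

theorem c_1_23 : Kl.all (fun k => ordOKB [k.1, Ut 23, Tt 1]) = true := by
  decide +kernel

theorem c_1_24 : Kl.all (fun k => ordOKB [k.1, Ut 24, Tt 1]) = true := by
  decide +kernel

theorem c_1_25 : Kl.all (fun k => ordOKB [k.1, Ut 25, Tt 1]) = true := by
  decide +kernel

theorem c_1_26 : Kl.all (fun k => ordOKB [k.1, Ut 26, Tt 1]) = true := by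
  decide +kernel

theorem c_1_27 : Kl.all (fun k => ordOKB [k.1, Ut 27, Tt 1]) = true := by
  decide +kernel

theorem c_1_28 : Kl.all (fun k => ordOKB [k.1, Ut 28, Tt 1]) = true := by
  decide +kernel

theorem c_1_29 : Kl.all (fun k => ordOKB [k.1, Ut 29, Tt 1]) = true := by
  decide +kernel

theorem c_1_30 : Kl.all (fun k => ordOKB [k.1, Ut 30, Tt 1]) = true := by
  decide +kernel

theorem c_1_31 : Kl.all (fun k => ordOKB [k.1, Ut 31, Tt 1]) = true := by
  decide +kernel

theorem c_1_32 : Kl.all (fun k => ordOKB [k.1, Ut 32, Tt 1]) = true := by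
  decide +kernel

theorem c_1_33 : Kl.all (fun k => ordOKB [k.1, Ut 33, Tt 1]) = true := by
  decide +kernel

theorem c_1_34 : Kl.all (fun k => ordOKB [k.1, Ut 34, Tt 1]) = true := by
  decide +kernel

theorem c_1_35 : Kl.all (fun k => ordOKB [k.1, Ut 35, Tt 1]) = true := by
  decide +kernel

end Cfsg.Agent.Lib.H22.J2Spec
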