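import Cfsg.Agent.Lib.H22.J2Spec.C00
import Cfsg.Agent.Lib.H22.J2Spec.C01
import Cfsg.Agent.Lib.H22.J2Spec.C02
import Cfsg.Agent.Lib.H22.J2Spec.C03
import Cfsg.Agent.Lib.H22.J2Spec.C04
import Cfsg.Agent.Lib.H22.J2Spec.C05

set_option autoImplicit false
set_option maxRecDepth 100000

/-! # Element orders of the Hall–Janko group: all order checks (generated) -/

namespace Cfsg.Agent.Lib.H22.J2Spec

open Cfsg.Agent.Lib.H17.CosetCert

theorem chunks : ∀ r < 3, ∀ j < 36, Kl.all (fun k => ordOKB [k.1, Ut j, Tt r]) = true := by
  intro r hr j hj
  interval_cases r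
  · interval_cases j
    · exact c_0_0
    · exact c_0_1
    · exact c_0_2
    · exact c_0_3
    · exact c_0_4
    · exact c_0_5
    · exact c_0_6
    · exact c_0_7
    · exact c_0_8
    · exact c_0_9
    · exact c_0_10
    · exact c_0_11
    · exact c_0_12
    · exact c_0_13
    · exact c_0_14
    · exact c_0_15
    · exact c_0_16
    · exact c_0_17
    · exact c_0_18
    · exact c_0_19
    · exact c_0_20
    · exact c_0_21
    · exact c_0_22
    · exact c_0_23
    · exact c_0_24
    · exact c_0_25
    · exact c_0_26
    · exact c_0_27
    · exact c_0_28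
    · exact c_0_29
    · exact c_0_30
    · exact c_0_31
    · exact c_0_32
    · exact c_0_33
    · exact c_0_34
    · exact c_0_35
  · interval_cases j
    · exact c_1_0
    · exact c_1_1
    · exact c_1_2
    · exact c_1_3
    · exact c_1_4
    · exact c_1_5
    · exact c_1_6
    · exact c_1_7
    · exact c_1_8
    · exact c_1_9
    · exact c_1_10
    · exact c_1_11
    · exact c_1_12
    · exact c_1_13
    · exact c_1_14
    · exact c_1_15
    · exact c_1_16
    · exact c_1_17
    · exact c_1_18
    · exact c_1_19
    · exact c_1_20
    · exact c_1_21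
    · exact c_1_22
    · exact c_1_23
    · exact c_1_24
    · exact c_1_25
    · exact c_1_26
    · exact c_1_27
    · exact c_1_28
    · exact c_1_29
    · exact c_1_30
    · exact c_1_31
    · exact c_1_32
    · exact c_1_33
    · exact c_1_34
    · exact c_1_35
  · interval_cases j
    · exact c_2_0
    · exact c_2_1
    · exact c_2_2
    · exact c_2_3
    · exact c_2_4
    · exact c_2_5
    · exact c_2_6
    · exact c_2_7
    · exact c_2_8
    · exact c_2_9
    · exact c_2_10
    · exact c_2_11
    · exact c_2_12
    · exact c_2_13
    · exact c_2_14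
    · exact c_2_15
    · exact c_2_16
    · exact c_2_17
    · exact c_2_18
    · exact c_2_19
    · exact c_2_20
    · exact c_2_21
    · exact c_2_22
    · exact c_2_23
    · exact c_2_24
    · exact c_2_25
    · exact c_2_26
    · exact c_2_27
    · exact c_2_28
    · exact c_2_29
    · exact c_2_30
    · exact c_2_31
    · exact c_2_32
    · exact c_2_33
    · exact c_2_34
    · exact c_2_35

end Cfsg.Agent.Lib.H22.J2Spec
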