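import Cfsg.Agent.Lib.H22.J2Spec.Data

set_option autoImplicit false
set_option maxRecDepth 100000

/-! # Element orders of the Hall–Janko group: checks of the data (generated) -/

namespace Cfsg.Agent.Lib.H22.J2Spec

open Cfsg.Agent.Lib.H17.CosetCert

/-- table `j` of the coset representatives -/
def Ut (j : ℕ) : ℕ := (Ul.getD j (0, [])).1

/-- word `j` of the coset representatives -/
def Uw (j : ℕ) : List ℕ := (Ul.getD j (0, [])).2

/-- table `m` of the two-point stabiliser -/
def Kt (m : ℕ) : ℕ := (Kl.getD m (0, [])).1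

/-- word `m` of the two-point stabiliser -/
def Kw (m : ℕ) : List ℕ := (Kl.getD m (0, [])).2

/-- table `r` of the suborbit movers -/
def Tt (r : ℕ) : ℕ := (Tl.getD r (0, [])).1

/-- word `r` of the suborbit movers -/
def Tw (r : ℕ) : List ℕ := (Tl.getD r (0, [])).2

theorem Ul_length : Ul.length = 36 := by decide +kernel

theorem Kl_length : Kl.length = 168 := by decide +kernel

theorem Tl_length : Tl.length = 3 := by decide +kernel

theorem Uimg_length : Uimg.length = 36 := by decide +kernel

theorem Kcode_length : Kcode.length = 168 := by decide +kernel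

theorem U_ok : Ul.all (fun p => wordTab (tw p.2) p.1 100 && Nat.beq (lk 7 128 p.1 0) 0) = true := by
  decide +kernel

theorem K_ok : Kl.all (fun p => wordTab (tw p.2) p.1 100 &&
    (Nat.beq (lk 7 128 p.1 0) 0 && Nat.beq (lk 7 128 p.1 36) 36)) = true := by
  decide +kernel

theorem T_ok : Tl.all (fun p => wordTab (tw p.2) p.1 100) = true := by
  decide +kernel

theorem T_img0 : lk 7 128 (Tt 0) 0 = 0 := by decide +kernel

theorem T_img1 : lk 7 128 (Tt 1) 0 = 36 := by decide +kernel

theorem T_img2 : lk 7 128 (Tt 2) 0 = 29 := by decide +kernel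

theorem C_ok : Cl.all (fun p => Nat.beq (applyT 7 128 (tw p.2) 0) 0 &&
    (Nat.beq (applyT 7 128 (tw p.2) p.1) 0 || (Nat.beq (applyT 7 128 (tw p.2) p.1) 36 ||
      Nat.beq (applyT 7 128 (tw p.2) p.1) 29))) = true := by
  decide +kernel

theorem C_fst : Cl.map Prod.fst = List.range 100 := by decide +kernel

theorem U_img : Ul.map (fun p => lk 7 128 p.1 36) = Uimg := by decide +kernel

theorem Uimg_nodup : Uimg.Nodup := by decide +kernel

theorem K_code : Kl.map (fun p => Nat.add (Nat.mul (lk 7 128 p.1 1) 128) (lk 7 128 p.1 2)) = Kcode := by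
  decide +kernel

theorem Kcode_nodup : Kcode.Nodup := by decide +kernel

theorem Uimg_j0 : Uimg.getD 11 0 = 36 := by decide +kernel

theorem Uw_j0 : Uw 11 = [] := by decide +kernel

theorem Kcode_m0 : Kcode.getD 167 0 = 130 := by decide +kernel

theorem Kw_m0 : Kw 167 = [] := by decide +kernel

end Cfsg.Agent.Lib.H22.J2Spec
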