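import Cfsg.Agent.Lib.H22.J2Spec.Call

set_option autoImplicit false
set_option maxRecDepth 100000

/-! # Element orders of the Hall–Janko group

The set of element orders of helper17's presented group `J2Pres.Grp` (of order 604800) is
`{1, 2, 3, 4, 5, 6, 7, 8, 10, 12, 15}`.  The point stabiliser `H` (order 6048) of the action on
100 points is listed as `U · K` (36 coset representatives times the 168 elements of a two-point
stabiliser); every element is `H`-conjugate to one moving the base point to one of three suborbit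
representatives, hence to `t · u · k`, and the kernel checks the orders of these 18144 elements. -/

namespace Cfsg.Agent.Lib.H22.J2Spec

open Cfsg.Agent.Lib.H17.CosetCert Cfsg.Agent.Lib.H17.J2P100 Cfsg.Agent.Lib.H17.J2PGlue
  Cfsg.Agent.Lib.H17.J2Deg100

theorem mem_getD {α : Type*} (l : List α) (j : ℕ) (d : α) (h : j < l.length) : l.getD j d ∈ l := by
  rw [List.getD_eq_getElem _ _ h]
  exact List.getElem_mem h

theorem getD_inj {l : List ℕ} (hl : l.Nodup) {i j : ℕ} (hi : i < l.length) (hj : j < l.length)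
    (h : l.getD i 0 = l.getD j 0) : i = j := by
  rw [List.getD_eq_getElem _ _ hi, List.getD_eq_getElem _ _ hj] at h
  exact (List.Nodup.getElem_inj_iff hl).mp h

theorem rep_U (j : ℕ) (hj : j < 36) : Rep (el (Uw j)) [Ut j] ∧ lk 7 128 (Ut j) 0 = 0 := by
  have hm : Ul.getD j (0, []) ∈ Ul := mem_getD _ _ _ (by rw [Ul_length]; exact hj)
  have := List.all_eq_true.mp U_ok _ hm
  rw [Bool.and_eq_true] at this
  exact ⟨(rep_el _).single (wordTab_sound _ _ _ this.1), Nat.eq_of_beq_eq_true this.2⟩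

theorem rep_K (m : ℕ) (hm : m < 168) :
    Rep (el (Kw m)) [Kt m] ∧ lk 7 128 (Kt m) 0 = 0 ∧ lk 7 128 (Kt m) 36 = 36 := by
  have hm : Kl.getD m (0, []) ∈ Kl := mem_getD _ _ _ (by rw [Kl_length]; exact hm)
  have := List.all_eq_true.mp K_ok _ hm
  rw [Bool.and_eq_true, Bool.and_eq_true] at this
  exact ⟨(rep_el _).single (wordTab_sound _ _ _ this.1), Nat.eq_of_beq_eq_true this.2.1,
    Nat.eq_of_beq_eq_true this.2.2⟩

theorem rep_T (r : ℕ) (hr : r < 3) : Rep (el (Tw r)) [Tt r] := by
  have hm : Tl.getD r (0, []) ∈ Tl := mem_getD _ _ _ (by rw [Tl_length]; exact hr)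
  have := List.all_eq_true.mp T_ok _ hm
  exact (rep_el _).single (wordTab_sound _ _ _ this)

theorem fix_of {g : G} {T : ℕ} (h : Rep g [T]) (i : ℕ) (hi : i < 100)
    (h0 : lk 7 128 T i = i) : φ g ⟨i, hi⟩ = ⟨i, hi⟩ :=
  Fin.ext (by rw [h.apply_single, h0])

theorem card_stab : Set.ncard {g : G | φ g z = z} = 6048 := by
  haveI := Cfsg.Agent.Lib.H17.J2Ord.finite_G
  letI : MulAction G (Fin 100) := MulAction.compHom (Fin 100) φ
  have hsmul : ∀ (g : G) (i : Fin 100), g • i = φ g i := fun _ _ => rfl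
  haveI : MulAction.IsPretransitive G (Fin 100) := by
    constructor
    intro i j
    obtain ⟨gi, hgi⟩ := φ_trans i
    obtain ⟨gj, hgj⟩ := φ_trans j
    refine ⟨gj * gi⁻¹, ?_⟩
    rw [hsmul, map_mul, map_inv, Equiv.Perm.mul_apply, ← hgi]
    simp [hgj]
  have h1 := MulAction.index_stabilizer_of_transitive G z
  rw [Nat.card_fin] at h1
  have h2 := Subgroup.card_mul_index (MulAction.stabilizer G z)
  rw [h1, Cfsg.Agent.Lib.H17.J2Ord.card_eq] at h2
  have h3 : Nat.card (MulAction.stabilizer G z) = 6048 := by omega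
  have h4 : ({g : G | φ g z = z} : Set G) = (MulAction.stabilizer G z : Set G) := by
    ext g
    rfl
  rw [h4, ← Nat.card_coe_set_eq]
  exact h3

theorem Uimg_getD (j : ℕ) : Uimg.getD j 0 = lk 7 128 (Ut j) 36 := by
  rw [← U_img]
  exact List.getD_map (l := Ul) (d := ((0, []) : ℕ × List ℕ)) (fun p => lk 7 128 p.1 36)

theorem Kcode_getD (m : ℕ) :
    Kcode.getD m 0 = Nat.add (Nat.mul (lk 7 128 (Kt m) 1) 128) (lk 7 128 (Kt m) 2) := by
  rw [← K_code]
  exact List.getD_map (l := Kl) (d := ((0, []) : ℕ × List ℕ))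
    (fun p => Nat.add (Nat.mul (lk 7 128 p.1 1) 128) (lk 7 128 p.1 2))

/-- **The point stabiliser is `U · K`.** -/
theorem stab_cover (h : G) (hz : φ h z = z) :
    ∃ j < 36, ∃ m < 168, h = el (Uw j) * el (Kw m) := by
  haveI := Cfsg.Agent.Lib.H17.J2Ord.finite_G
  let F : Fin 36 × Fin 168 → G := fun p => el (Uw p.1) * el (Kw p.2)
  have hb : ∀ (j : Fin 36) (m : Fin 168),
      ((φ (F (j, m)) ⟨36, by norm_num⟩ : Fin 100) : ℕ) = lk 7 128 (Ut j) 36 := by
    intro j m
    change ((φ (el (Uw j) * el (Kw m)) ⟨36, by norm_num⟩ : Fin 100) : ℕ) = _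
    rw [map_mul, Equiv.Perm.mul_apply,
      fix_of (rep_K m m.2).1 36 (by norm_num) (rep_K m m.2).2.2, (rep_U j j.2).1.apply_single]
  have hF : Function.Injective F := by
    rintro ⟨j, m⟩ ⟨j', m'⟩ heq
    have h1 : lk 7 128 (Ut j) 36 = lk 7 128 (Ut j') 36 := by
      rw [← hb j m, ← hb j' m', heq]
    have hjj : (j : ℕ) = j' := by
      apply getD_inj Uimg_nodup (by rw [Uimg_length]; exact j.2) (by rw [Uimg_length]; exact j'.2)
      rw [Uimg_getD, Uimg_getD, h1]
    have hjj' : j = j' := Fin.ext hjj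
    subst hjj'
    have h2 : el (Kw m) = el (Kw m') := mul_left_cancel heq
    have h3 : ∀ i : Fin 100, lk 7 128 (Kt m) i = lk 7 128 (Kt m') i := by
      intro i
      rw [← (rep_K m m.2).1.apply_single, ← (rep_K m' m'.2).1.apply_single, h2]
    have hmm : (m : ℕ) = m' := by
      apply getD_inj Kcode_nodup (by rw [Kcode_length]; exact m.2)
        (by rw [Kcode_length]; exact m'.2)
      rw [Kcode_getD, Kcode_getD]
      have e1 := h3 ⟨1, by norm_num⟩
      have e2 := h3 ⟨2, by norm_num⟩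
      simp only at e1 e2
      rw [e1, e2]
    have hmm' : m = m' := Fin.ext hmm
    subst hmm'
    rfl
  have hsub : Set.range F ⊆ {g : G | φ g z = z} := by
    rintro _ ⟨⟨j, m⟩, rfl⟩
    change φ (el (Uw j) * el (Kw m)) z = z
    rw [map_mul, Equiv.Perm.mul_apply]
    have hk : φ (el (Kw m)) z = z := fix_of (rep_K m m.2).1 0 (by norm_num) (rep_K m m.2).2.1
    have hu : φ (el (Uw j)) z = z := fix_of (rep_U j j.2).1 0 (by norm_num) (rep_U j j.2).2
    rw [hk, hu]
  have hcard : (Set.range F).ncard = 6048 := by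
    rw [← Set.image_univ, Set.ncard_image_of_injective _ hF, Set.ncard_univ, Nat.card_prod,
      Nat.card_fin, Nat.card_fin]
  have heq := Set.eq_of_subset_of_ncard_le hsub (by rw [card_stab, hcard]) (Set.toFinite _)
  have hmem : h ∈ Set.range F := by
    rw [heq]
    exact hz
  obtain ⟨⟨j, m⟩, rfl⟩ := hmem
  exact ⟨j, j.2, m, m.2, rfl⟩

theorem el_nil : el [] = 1 := rfl

/-- **The four points `0, 36, 1, 2` form a base.** -/
theorem isBase : IsBase := by
  intro g h0 h36 h1 h2
  obtain ⟨j, hj, m, hm, hjm⟩ := stab_cover g h0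
  -- the coset representative is trivial
  have hu := (rep_U j hj).1
  have hk := rep_K m hm
  have e36 : lk 7 128 (Ut j) 36 = 36 := by
    have := congrArg (fun i : Fin 100 => (i : ℕ)) h36
    simp only at this
    rw [hjm, map_mul, Equiv.Perm.mul_apply, fix_of hk.1 36 (by norm_num) hk.2.2,
      hu.apply_single] at this
    exact this
  have hj0 : j = 11 := by
    apply getD_inj Uimg_nodup (by rw [Uimg_length]; exact hj) (by rw [Uimg_length]; norm_num)
    rw [Uimg_getD, e36, Uimg_j0]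
  subst hj0
  rw [Uw_j0, el_nil, one_mul] at hjm
  -- the element of the two-point stabiliser is trivial
  have e1 : lk 7 128 (Kt m) 1 = 1 := by
    have := congrArg (fun i : Fin 100 => (i : ℕ)) h1
    simp only at this
    rw [hjm, hk.1.apply_single] at this
    exact this
  have e2 : lk 7 128 (Kt m) 2 = 2 := by
    have := congrArg (fun i : Fin 100 => (i : ℕ)) h2
    simp only at this
    rw [hjm, hk.1.apply_single] at this
    exact this
  have hm0 : m = 167 := by
    apply getD_inj Kcode_nodup (by rw [Kcode_length]; exact hm) (by rw [Kcode_length]; norm_num)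
    rw [Kcode_getD, e1, e2, Kcode_m0]
  subst hm0
  rw [Kw_m0, el_nil] at hjm
  exact hjm

/-- **Every element order lies in the spectrum.** -/
theorem order_mem (g : G) : orderOf g ∈ Tset := by
  have hz0 : ((z : Fin 100) : ℕ) = 0 := rfl
  -- the conjugating word
  obtain ⟨p, hp, hpδ⟩ : ∃ p ∈ Cl, p.1 = ((φ g z : Fin 100) : ℕ) := by
    have : ((φ g z : Fin 100) : ℕ) ∈ Cl.map Prod.fst := by
      rw [C_fst]
      exact List.mem_range.mpr (φ g z).2
    obtain ⟨p, hp, h⟩ := List.mem_map.mp this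
    exact ⟨p, hp, h⟩
  have hc := List.all_eq_true.mp C_ok p hp
  rw [Bool.and_eq_true, Bool.or_eq_true, Bool.or_eq_true] at hc
  obtain ⟨h0, hr⟩ := hc
  have h0' := Nat.eq_of_beq_eq_true h0
  have hρ : Rep (el p.2) (tw p.2) := rep_el _
  have hρz : φ (el p.2) z = z := Fin.ext (by rw [hρ z, hz0]; exact h0')
  have hρz' : (φ (el p.2))⁻¹ z = z := Equiv.Perm.inv_eq_iff_eq.mpr hρz.symm
  have hx : ((φ (el p.2 * g * (el p.2)⁻¹) z : Fin 100) : ℕ) = applyT 7 128 (tw p.2) p.1 := by
    rw [map_mul, map_mul, map_inv, Equiv.Perm.mul_apply, Equiv.Perm.mul_apply, hρz', hρ, hpδ]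
  have hord : orderOf (el p.2 * g * (el p.2)⁻¹) = orderOf g := by
    have hs : SemiconjBy (el p.2) g (el p.2 * g * (el p.2)⁻¹) := by
      unfold SemiconjBy
      group
    exact (hs.orderOf_eq _).symm
  rw [← hord]
  -- the suborbit representative
  obtain ⟨r, hr3, hrx⟩ : ∃ r < 3,
      ((φ (el p.2 * g * (el p.2)⁻¹) z : Fin 100) : ℕ) = lk 7 128 (Tt r) 0 := by
    rcases hr with hr | hr | hr
    · exact ⟨0, by norm_num, by rw [hx, Nat.eq_of_beq_eq_true hr, T_img0]⟩
    · exact ⟨1, by norm_num, by rw [hx, Nat.eq_of_beq_eq_true hr, T_img1]⟩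
    · exact ⟨2, by norm_num, by rw [hx, Nat.eq_of_beq_eq_true hr, T_img2]⟩
  generalize el p.2 * g * (el p.2)⁻¹ = x at hrx ⊢
  have ht := rep_T r hr3
  have htx : φ (el (Tw r)) z = φ x z := Fin.ext (by rw [ht.apply_single, hrx, hz0])
  have hh : φ ((el (Tw r))⁻¹ * x) z = z := by
    rw [map_mul, map_inv, Equiv.Perm.mul_apply, ← htx]
    simp
  obtain ⟨j, hj, m, hm, hjm⟩ := stab_cover _ hh
  have hxe : x = el (Tw r) * (el (Uw j) * el (Kw m)) := by
    rw [← hjm]
    group
  have hrep : Rep x [Kt m, Ut j, Tt r] := by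
    rw [hxe]
    exact ht.mul ((rep_U j hj).1.mul (rep_K m hm).1)
  have hmem : Kl.getD m (0, []) ∈ Kl := mem_getD _ _ _ (by rw [Kl_length]; exact hm)
  have hok := List.all_eq_true.mp (chunks r hr3 j hj) _ hmem
  exact hrep.order_mem_of_base isBase hok

/-! ## witnesses -/

theorem order7 : orderOf (el [0, 1, 2, 1, 3, 2, 1, 3, 4]) = 7 := by
  have h := rep_el [0, 1, 2, 1, 3, 2, 1, 3, 4]
  apply orderOf_eq_of_pow_and_pow_div_prime (by norm_num) (h.pow_eq_one (by decide +kernel))
  intro p hp hpd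
  have hp7 : p = 7 := (Nat.prime_dvd_prime_iff_eq hp (by norm_num)).mp hpd
  subst hp7
  exact h.pow_ne_one 1 0 (by norm_num) (by decide +kernel)

theorem order8 : orderOf (el [2, 3]) = 8 := by
  have h := rep_el [2, 3]
  apply orderOf_eq_of_pow_and_pow_div_prime (by norm_num) (h.pow_eq_one (by decide +kernel))
  intro p hp hpd
  have hp2 : p = 2 := by
    have : p ∣ 2 ^ 3 := hpd
    exact (Nat.prime_dvd_prime_iff_eq hp Nat.prime_two).mp (hp.dvd_of_dvd_pow this)
  subst hp2
  exact h.pow_ne_one 4 0 (by norm_num) (by decide +kernel)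

theorem prime_cases {p a b : ℕ} (ha : a.Prime) (hb : b.Prime) (hp : p.Prime) (h : p ∣ a * b) :
    p = a ∨ p = b := by
  rcases (Nat.Prime.dvd_mul hp).mp h with h | h
  · exact Or.inl ((Nat.prime_dvd_prime_iff_eq hp ha).mp h)
  · exact Or.inr ((Nat.prime_dvd_prime_iff_eq hp hb).mp h)

theorem order10 : orderOf (el [0, 1, 3]) = 10 := by
  have h := rep_el [0, 1, 3]
  apply orderOf_eq_of_pow_and_pow_div_prime (by norm_num) (h.pow_eq_one (by decide +kernel))
  intro p hp hpd
  rcases prime_cases (a := 2) (b := 5) (by norm_num) (by norm_num) hp hpd with rfl | rfl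
  · exact h.pow_ne_one 5 0 (by norm_num) (by decide +kernel)
  · exact h.pow_ne_one 2 0 (by norm_num) (by decide +kernel)

theorem order12 : orderOf (el [2, 3, 4]) = 12 := by
  have h := rep_el [2, 3, 4]
  apply orderOf_eq_of_pow_and_pow_div_prime (by norm_num) (h.pow_eq_one (by decide +kernel))
  intro p hp hpd
  have hpd' : p ∣ 2 * 3 := by
    have h12 : p ∣ 2 * (2 * 3) := hpd
    rcases (Nat.Prime.dvd_mul hp).mp h12 with h2 | h6
    · exact Dvd.dvd.mul_right h2 3
    · exact h6
  rcases prime_cases (a := 2) (b := 3) (by norm_num) (by norm_num) hp hpd' with rfl | rfl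
  · exact h.pow_ne_one 6 0 (by norm_num) (by decide +kernel)
  · exact h.pow_ne_one 4 0 (by norm_num) (by decide +kernel)

theorem order15 : orderOf (el [0, 1, 3, 4]) = 15 := by
  have h := rep_el [0, 1, 3, 4]
  apply orderOf_eq_of_pow_and_pow_div_prime (by norm_num) (h.pow_eq_one (by decide +kernel))
  intro p hp hpd
  rcases prime_cases (a := 3) (b := 5) (by norm_num) (by norm_num) hp hpd with rfl | rfl
  · exact h.pow_ne_one 5 0 (by norm_num) (by decide +kernel)
  · exact h.pow_ne_one 3 0 (by norm_num) (by decide +kernel)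

theorem exists_order {n : ℕ} (hn : n ∈ Tset) : ∃ g : G, orderOf g = n := by
  have hdiv : ∀ (g : G) (N d : ℕ), orderOf g = N → d ≠ 0 → d ∣ N → orderOf (g ^ d) = N / d := by
    intro g N d hN hd hdvd
    rw [orderOf_pow_of_dvd hd (by rw [hN]; exact hdvd), hN]
  simp only [Tset, Set.mem_insert_iff, Set.mem_singleton_iff] at hn
  rcases hn with rfl | rfl | rfl | rfl | rfl | rfl | rfl | rfl | rfl | rfl | rfl
  · exact ⟨1, orderOf_one⟩
  · exact ⟨_, hdiv _ 8 4 order8 (by norm_num) (by norm_num)⟩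
  · exact ⟨_, hdiv _ 12 4 order12 (by norm_num) (by norm_num)⟩
  · exact ⟨_, hdiv _ 8 2 order8 (by norm_num) (by norm_num)⟩
  · exact ⟨_, hdiv _ 10 2 order10 (by norm_num) (by norm_num)⟩
  · exact ⟨_, hdiv _ 12 2 order12 (by norm_num) (by norm_num)⟩
  · exact ⟨_, order7⟩
  · exact ⟨_, order8⟩
  · exact ⟨_, order10⟩
  · exact ⟨_, order12⟩
  · exact ⟨_, order15⟩

/-- **The spectrum of the presented Hall–Janko group.** -/
theorem spectrum_G : Set.range (orderOf : G → ℕ) = {1, 2, 3, 4, 5, 6, 7, 8, 10, 12, 15} := by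
  ext n
  constructor
  · rintro ⟨g, rfl⟩
    exact order_mem g
  · intro hn
    exact exists_order hn

/-- **The spectrum of helper17's presented group `J2Pres.Grp`.** -/
theorem spectrum : Set.range (orderOf : Cfsg.Agent.Lib.H17.J2Pres.Grp → ℕ) =
    {1, 2, 3, 4, 5, 6, 7, 8, 10, 12, 15} :=
  spectrum_G

end Cfsg.Agent.Lib.H22.J2Spec
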